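import Mathlib.RingTheory.Spectrum.Prime.FreeLocus
import Mathlib.RingTheory.Ideal.AssociatedPrime.Basic
import Mathlib.RingTheory.Flat.FaithfullyFlat.Algebra
import Mathlib.RingTheory.OrzechProperty
import Mathlib.RingTheory.Flat.Rank
import Groth.Agent.L27.Quot.Galois

/-!
Invariants of a finite locally free algebra with an action that is free at the associated primes.
-/

set_option autoImplicit false
set_option linter.unusedSectionVars false

universe u

open TensorProduct

noncomputable section

namespace Groth.L22.SymHilb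

variable (A B : Type u) (G : Type u) [CommRing A] [CommRing B] [Algebra A B] [Group G] [Fintype G]
  [MulSemiringAction G B] [SMulCommClass G A B]

/-- The Galois map is injective when the action is free at the associated primes and the degree is the order. -/
theorem piMap_injective [Module.Finite A B] [Module.Projective A B] [IsNoetherianRing B]
    (hrank : ∀ p : PrimeSpectrum A, Module.rankAtStalk B p = Fintype.card G)
    (hfree : ∀ (x : Ideal B) [x.IsPrime], (∃ b0 : B, ∀ r, r ∈ x ↔ r * b0 = 0) →
      ∀ g h : G, g ≠ h → ∃ b : B, g • b - h • b ∉ x) :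
    Function.Injective (Groth.L27.Quot.piMap A B G) := by
  classical
  set π := Groth.L27.Quot.piMap A B G
  rw [injective_iff_map_eq_zero]
  intro m hm
  by_contra hm0
  obtain ⟨n, i, r, -, -, hir⟩ := Module.Finite.exists_comp_eq_id_of_projective A B
  -- coordinates
  let ℓ : Fin n → (B →ₗ[A] A) := fun j => (LinearMap.proj j).comp r
  let C : Fin n → (B ⊗[A] B →ₗ[B] B) := fun j =>
    (AlgebraTensorModule.rid A B B).toLinearMap.comp (AlgebraTensorModule.map LinearMap.id (ℓ j))
  have hC : ∀ (j : Fin n) (b c : B), C j (b ⊗ₜ c) = ℓ j c • b := fun j b c => by simp [C]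
  have hrec : ∀ z : B ⊗[A] B, z = ∑ j, C j z ⊗ₜ[A] i (Pi.single j 1) := fun z => by
    induction z using TensorProduct.induction_on with
    | zero => simp
    | tmul b c =>
      simp only [hC, TensorProduct.smul_tmul, ← TensorProduct.tmul_sum]
      congr 1
      conv_lhs => rw [← LinearMap.id_apply (R := A) c, ← hir, LinearMap.comp_apply, pi_eq_sum_univ' (r c), map_sum]
      simp [ℓ]
    | add x y hx hy =>
      simp only [map_add, TensorProduct.add_tmul, Finset.sum_add_distrib]
      rw [← hx, ← hy]
  -- an associated prime of the kernel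
  let K := LinearMap.ker π.toLinearMap
  obtain ⟨P, hPass, -⟩ := exists_le_isAssociatedPrime_of_isNoetherianRing B (⟨m, hm⟩ : K)
    (fun h => hm0 (congrArg Subtype.val h))
  obtain ⟨hPp, ⟨m', hm'⟩, hP⟩ := isAssociatedPrime_iff.1 hPass
  haveI := hPp
  have hmem : ∀ s : B, s ∈ P ↔ s • m' = 0 := fun s => by
    rw [hP, Submodule.mem_colon_singleton, Submodule.mem_bot]
    exact ⟨fun h => congrArg Subtype.val h, fun h => Subtype.ext h⟩
  -- one coordinate has annihilator `P`
  obtain ⟨j, hj⟩ : ∃ j, ∀ s : B, s * C j m' = 0 → s ∈ P := by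
    by_contra hcon
    push Not at hcon
    choose t ht htP using hcon
    have h1 : (∏ j, t j) ∈ P := by
      rw [hmem, hrec ((∏ j, t j) • m')]
      refine Finset.sum_eq_zero fun j _ => ?_
      rw [map_smul, smul_eq_mul, Finset.prod_eq_prod_sdiff_singleton_mul (Finset.mem_univ j), mul_assoc, ht,
        mul_zero, TensorProduct.zero_tmul]
    obtain ⟨j, -, hj⟩ := (Ideal.IsPrime.prod_mem_iff).1 h1
    exact htP j hj
  have hP0 : ∀ s ∈ P, s * C j m' = 0 := fun s hs => by
    rw [← smul_eq_mul, ← map_smul, (hmem s).1 hs, map_zero]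
  -- the localised Galois map
  let L := Localization.AtPrime P
  let ι' : B →ₐ[A] L := IsScalarTower.toAlgHom A B L
  let πL : L ⊗[A] B →ₐ[L] (G → L) := Algebra.TensorProduct.lift (Algebra.ofId L (G → L))
    (Pi.algHom A (fun _ : G => L) fun g => ι'.comp (MulSemiringAction.toAlgHom A B g)) fun _ _ => .all _ _
  have hπL : ∀ (l : L) (b : B) (g : G), πL (l ⊗ₜ b) g = l * ι' (g • b) := fun l b g => by simp [πL]
  have hsurj : Function.Surjective πL := by
    have key : ∀ g : G, ∃ z : L ⊗[A] B, πL z = Pi.single g 1 := by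
      intro g
      have h1 : ∀ h : G, h ≠ g → ∃ z : L ⊗[A] B, πL z h = 0 ∧ IsUnit (πL z g) := by
        intro h hh
        obtain ⟨b, hb⟩ := hfree P ⟨_, fun r => ⟨hP0 r, hj r⟩⟩ g h (Ne.symm hh)
        refine ⟨(1 : L) ⊗ₜ b - ι' (h • b) ⊗ₜ 1, by simp [hπL], ?_⟩
        have : πL ((1 : L) ⊗ₜ b - ι' (h • b) ⊗ₜ 1) g = algebraMap B L (g • b - h • b) := by
          simp [hπL, ι', map_sub]
        rw [this]
        exact IsLocalization.map_units L (⟨_, hb⟩ : P.primeCompl)
      choose! z hz0 hzu using h1
      let Z := ∏ h ∈ Finset.univ.erase g, z h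
      have hu : IsUnit (πL Z g) := by
        simp only [Z, map_prod, Finset.prod_apply]
        exact IsUnit.prod_iff.2 fun h hh => hzu h (Finset.ne_of_mem_erase hh)
      refine ⟨(↑hu.unit⁻¹ : L) • Z, ?_⟩
      ext k
      rw [map_smul, Pi.smul_apply, smul_eq_mul]
      by_cases hk : k = g
      · subst hk; rw [Pi.single_eq_same, IsUnit.val_inv_mul]
      · rw [Pi.single_eq_of_ne hk]
        have : πL Z k = 0 := by
          simp only [Z, map_prod, Finset.prod_apply]
          exact Finset.prod_eq_zero (Finset.mem_erase.2 ⟨hk, Finset.mem_univ k⟩) (hz0 k hk)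
        rw [this, mul_zero]
    choose z hz using key
    intro v
    refine ⟨∑ g, v g • z g, ?_⟩
    ext k
    simp [map_sum, hz, Finset.sum_apply, Pi.single_apply, Finset.mem_univ]
  have hinj : Function.Injective πL := by
    haveI : Module.Free L (L ⊗[A] B) := Module.free_of_flat_of_isLocalRing
    have hfr : Module.finrank L (L ⊗[A] B) = Module.finrank L (G → L) := by
      have := congrFun (Module.rankAtStalk_eq_finrank_of_free (R := L) (M := L ⊗[A] B))
        ⟨IsLocalRing.maximalIdeal L, inferInstance⟩
      rw [Module.rankAtStalk_baseChange, hrank] at this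
      rw [Module.finrank_pi]
      simpa using this.symm
    let e : (G → L) ≃ₗ[L] L ⊗[A] B := LinearEquiv.ofFinrankEq _ _ hfr.symm
    have := OrzechProperty.injective_of_surjective_endomorphism (e.toLinearMap.comp πL.toLinearMap)
      (e.surjective.comp hsurj)
    exact fun x y h => this (by simp [h])
  -- conclude
  let ν : B ⊗[A] B →ₗ[A] L ⊗[A] B := LinearMap.rTensor B ι'.toLinearMap
  have hcomm : ∀ (z : B ⊗[A] B) (g : G), πL (ν z) g = ι' (π z g) := fun z g => by
    induction z using TensorProduct.induction_on with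
    | zero => simp
    | tmul b c => simp [ν, π, hπL, map_mul]
    | add x y hx hy => simp [map_add, hx, hy]
  have hν : ν m' = 0 := hinj (by
    ext g
    rw [hcomm, map_zero, show π m' = 0 from hm']
    simp)
  let CL : L ⊗[A] B →ₗ[L] L :=
    (AlgebraTensorModule.rid A L L).toLinearMap.comp (AlgebraTensorModule.map LinearMap.id (ℓ j))
  have hCL : ∀ z : B ⊗[A] B, CL (ν z) = ι' (C j z) := fun z => by
    induction z using TensorProduct.induction_on with
    | zero => simp
    | tmul b c => simp [ν, CL, hC, map_smul]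
    | add x y hx hy => simp [map_add, hx, hy]
  have h0 : algebraMap B L (C j m') = 0 := (hCL m').symm.trans (by rw [hν, map_zero])
  obtain ⟨s, hs⟩ := (IsLocalization.map_eq_zero_iff P.primeCompl L _).1 h0
  exact s.2 (hj _ hs)

/-- The invariants are the base ring. -/
theorem mem_range_of_invariant [Module.Finite A B] [Module.Projective A B] [IsNoetherianRing B]
    (hrank : ∀ p : PrimeSpectrum A, Module.rankAtStalk B p = Fintype.card G)
    (hfree : ∀ (x : Ideal B) [x.IsPrime], (∃ b0 : B, ∀ r, r ∈ x ↔ r * b0 = 0) →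
      ∀ g h : G, g ≠ h → ∃ b : B, g • b - h • b ∉ x)
    (c : B) (hc : ∀ g : G, g • c = c) : c ∈ Set.range (algebraMap A B) := by
  have h1 : c ⊗ₜ[A] (1 : B) = (1 : B) ⊗ₜ[A] c := by
    apply piMap_injective A B G hrank hfree
    ext g
    simp [hc g]
  haveI : Module.FaithfullyFlat A B := by
    exact Module.FaithfullyFlat.of_comap_surjective
      ((PrimeSpectrum.rankAtStalk_pos_iff_comap_surjective).1 fun p => (hrank p).symm ▸ Fintype.card_pos)
  let π := Submodule.mkQ (LinearMap.range (Algebra.linearMap A B))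
  have h2 : (1 : B) ⊗ₜ[A] π c = 0 := by
    have := congrArg (LinearMap.lTensor B π) h1
    rw [LinearMap.lTensor_tmul, LinearMap.lTensor_tmul] at this
    rw [← this, show π 1 = 0 from (Submodule.Quotient.mk_eq_zero _).2 ⟨1, by simp⟩, tmul_zero]
  have h3 : π c = 0 := (Module.FaithfullyFlat.one_tmul_eq_zero_iff A _ (π c)).1 h2
  exact (Submodule.Quotient.mk_eq_zero _).1 h3

end Groth.L22.SymHilb
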