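import Groth.Prelude.Def_Mor2
import Mathlib.AlgebraicGeometry.Morphisms.FlatRank
import Mathlib.AlgebraicGeometry.ResidueField
import Mathlib.RingTheory.LocalRing.Module
import Mathlib.RingTheory.Artinian.Module

/-!
The degree of a composite of finite locally free morphisms.
-/

set_option autoImplicit false
set_option linter.style.haveILetI false
set_option backward.isDefEq.respectTransparency false

universe u

open CategoryTheory CategoryTheory.Limits AlgebraicGeometry
open scoped TensorProduct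

namespace Groth.L22.SymHilb

theorem finrank_quot_eq_rankAtStalk {R M : Type u} [CommRing R] [AddCommGroup M] [Module R M]
    [Module.Finite R M] [Module.Flat R M] (P : MaximalSpectrum R) :
    Module.finrank (R ⧸ P.1) ((R ⧸ P.1) ⊗[R] M) = Module.rankAtStalk M ⟨P.1, inferInstance⟩ := by
  letI := Ideal.Quotient.field P.1
  rw [Module.rankAtStalk_eq]
  have := (TensorProduct.AlgebraTensorModule.cancelBaseChange R (R ⧸ P.1) P.1.ResidueField P.1.ResidueField M).finrank_eq
  rw [Module.finrank_baseChange (R := P.1.ResidueField) (S := R ⧸ P.1) (M' := (R ⧸ P.1) ⊗[R] M)] at this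
  exact this

theorem finrank_tower (k R C : Type u) [Field k] [CommRing R] [CommRing C] [Algebra k R] [Algebra R C] [Algebra k C]
    [IsScalarTower k R C] [Module.Finite k R] [Module.Finite R C] [Module.Flat R C] (a : ℕ)
    (ha : ∀ p : PrimeSpectrum R, Module.rankAtStalk C p = a) :
    Module.finrank k C = a * Module.finrank k R := by
  haveI : IsArtinianRing R := IsArtinianRing.of_finite k R
  obtain ⟨b⟩ := Module.nonempty_basis_of_flat_of_finrank_eq R C a fun P => by
    rw [finrank_quot_eq_rankAtStalk, ha]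
  haveI : Module.Free R C := .of_basis b
  by_cases hR : Nontrivial R
  · rw [← Module.finrank_mul_finrank k R C, Module.finrank_eq_card_basis b, Fintype.card_fin, mul_comm]
  · rw [not_nontrivial_iff_subsingleton] at hR
    haveI : Subsingleton C := Module.subsingleton R _
    rw [Module.finrank_zero_of_subsingleton, Module.finrank_zero_of_subsingleton, Nat.mul_zero]

theorem finrank_comp_spec {k R C : CommRingCat.{u}} (hk : IsField k) (φ : k ⟶ R) (ψ : R ⟶ C)
    [IsFinite (Spec.map φ)] [IsFinite (Spec.map ψ)] [Flat (Spec.map ψ)] (a : ℕ)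
    (ha : ∀ p, (Spec.map ψ).finrank p = a) (s : ↥(Spec k)) :
    (Spec.map ψ ≫ Spec.map φ).finrank s = a * (Spec.map φ).finrank s := by
  letI := hk.toField
  letI : Algebra k R := φ.hom.toAlgebra
  letI : Algebra R C := ψ.hom.toAlgebra
  letI : Algebra k C := (ψ.hom.comp φ.hom).toAlgebra
  haveI : IsScalarTower k R C := IsScalarTower.of_algebraMap_eq fun _ => rfl
  haveI : Module.Finite k R := (IsFinite.SpecMap_iff φ).1 ‹_›
  haveI : Module.Finite R C := (IsFinite.SpecMap_iff ψ).1 ‹_›
  haveI : Module.Finite k C := Module.Finite.trans R C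
  haveI : Module.Flat R C := RingHom.flat_algebraMap_iff.1 ((Flat.SpecMap_iff (f := ψ)).1 ‹_›)
  have e1 : Spec.map ψ ≫ Spec.map φ = Spec.map (CommRingCat.ofHom (algebraMap k C)) := by
    rw [← Spec.map_comp]; rfl
  have e2 : Spec.map φ = Spec.map (CommRingCat.ofHom (algebraMap k R)) := rfl
  rw [e1, e2, Scheme.Hom.finrank_SpecMap_algebraMap, Scheme.Hom.finrank_SpecMap_algebraMap,
    Module.rankAtStalk_eq_finrank_of_free, Module.rankAtStalk_eq_finrank_of_free]
  refine finrank_tower k R C a fun p => ?_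
  rw [← ha p, show Spec.map ψ = Spec.map (CommRingCat.ofHom (algebraMap R C)) from rfl,
    Scheme.Hom.finrank_SpecMap_algebraMap]

theorem isFinLocFreeOfDeg_comp {X Y Z : Scheme.{u}} {f : X ⟶ Y} {g : Y ⟶ Z} {a b : ℕ}
    (hf : Mor2.IsFinLocFreeOfDeg a f) (hg : Mor2.IsFinLocFreeOfDeg b g) :
    Mor2.IsFinLocFreeOfDeg (a * b) (f ≫ g) := by
  obtain ⟨⟨hf1, hf2, hf3⟩, hfd⟩ := hf
  obtain ⟨⟨hg1, hg2, hg3⟩, hgd⟩ := hg
  haveI := hf1; haveI := hf2; haveI := hf3; haveI := hg1; haveI := hg2; haveI := hg3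
  refine ⟨⟨inferInstance, inferInstance, inferInstance⟩, fun z => ?_⟩
  let i := Z.fromSpecResidueField z
  obtain ⟨s⟩ : Nonempty ↥(Spec (Z.residueField z)) := inferInstance
  have hs : i s = z := by rw [Scheme.fromSpecResidueField_apply]
  let g₁ := pullback.snd g i
  let f₁ := pullback.snd f (pullback.fst g i)
  have sq : IsPullback (pullback.fst f (pullback.fst g i)) (f₁ ≫ g₁) (f ≫ g) i :=
    (IsPullback.of_hasPullback f (pullback.fst g i)).paste_vert (IsPullback.of_hasPullback g i)
  rw [← hs, ← Scheme.Hom.finrank_of_isPullback _ _ _ _ sq s]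
  have hfd1 : ∀ y, f₁.finrank y = a := fun y =>
    (Scheme.Hom.finrank_of_isPullback _ _ _ _ (IsPullback.of_hasPullback f (pullback.fst g i)) y).trans (hfd _)
  have hgd1 : g₁.finrank s = b :=
    (Scheme.Hom.finrank_of_isPullback _ _ _ _ (IsPullback.of_hasPullback g i) s).trans (hgd _)
  haveI : IsAffine (pullback g i) := isAffine_of_isAffineHom g₁
  haveI : IsAffine (pullback f (pullback.fst g i)) := isAffine_of_isAffineHom f₁
  let eY := (pullback g i).isoSpec
  let eX := (pullback f (pullback.fst g i)).isoSpec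
  obtain ⟨φ, hφ⟩ := Spec.map_surjective (eY.inv ≫ g₁)
  obtain ⟨ψ, hψ⟩ := Spec.map_surjective (eX.inv ≫ f₁ ≫ eY.hom)
  haveI : IsFinite (Spec.map φ) := by rw [hφ]; infer_instance
  haveI : IsFinite (Spec.map ψ) := by rw [hψ]; infer_instance
  haveI : Flat (Spec.map ψ) := by rw [hψ]; infer_instance
  have ha : ∀ p, (Spec.map ψ).finrank p = a := fun p => by
    rw [hψ, Scheme.Hom.finrank_comp_left_of_isIso,
      Scheme.Hom.finrank_of_isPullback (𝟙 _) (f₁ ≫ eY.hom) f₁ eY.inv
        (IsPullback.of_horiz_isIso ⟨by simp⟩) p]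
    exact hfd1 _
  have key := finrank_comp_spec (Field.toIsField (Z.residueField z)) φ ψ a ha s
  have e : Spec.map ψ ≫ Spec.map φ = eX.inv ≫ (f₁ ≫ g₁) := by simp [hφ, hψ]
  rw [e, hφ, Scheme.Hom.finrank_comp_left_of_isIso eX.inv, Scheme.Hom.finrank_comp_left_of_isIso eY.inv, hgd1] at key
  exact key

end Groth.L22.SymHilb
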