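import Groth.Agent.L22.SymHilb.Pow
import Groth.Agent.L22.SymQuot.Points

/-!
Associated points of the fibre power of a curve have pairwise distinct coordinates.
-/

set_option autoImplicit false
set_option linter.style.haveILetI false
set_option backward.isDefEq.respectTransparency false
set_option backward.isDefEq.respectTransparency.types false

universe u

open CategoryTheory CategoryTheory.Limits AlgebraicGeometry
open scoped nonZeroDivisors

noncomputable section

namespace Groth.L22.SymHilb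

/-- An effective Cartier divisor avoids the associated points. -/
theorem notMem_support_of_assoc {P Q : Scheme.{u}} (e : P ⟶ Q) [IsIso e] {W : P.Opens} (hW : IsAffineOpen W)
    (J : Q.IdealSheafData) (hJ : BlowUp.IsEffCartierIdeal J) (x : PrimeSpectrum Γ(P, W)) (b0 : Γ(P, W))
    (hb : ∀ r, r ∈ x.asIdeal ↔ r * b0 = 0) (hx : hW.fromSpec x ∈ W) : e (hW.fromSpec x) ∉ J.support := by
  intro hmem
  obtain ⟨U, hU, t, ht, htJ⟩ := hJ (e (hW.fromSpec x))
  rw [Scheme.IdealSheafData.mem_support_iff_of_mem hU, Scheme.mem_zeroLocus_iff] at hmem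
  have hnu : ¬ IsUnit (Q.presheaf.germ U.1 _ hU t) := fun h =>
    hmem t (by rw [htJ]; exact Ideal.mem_span_singleton_self t) ((Q.mem_basicOpen t _ hU).2 h)
  letI := Q.presheaf.algebra_section_stalk ⟨e (hW.fromSpec x), hU⟩
  haveI := U.2.isLocalization_stalk ⟨e (hW.fromSpec x), hU⟩
  have hnzd : (Q.presheaf.germ U.1 _ hU t : Q.presheaf.stalk (e (hW.fromSpec x))) ∈ (Q.presheaf.stalk (e (hW.fromSpec x)))⁰ :=
    IsLocalization.map_nonZeroDivisors_le (U.2.primeIdealOf ⟨_, hU⟩).asIdeal.primeCompl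
      (Q.presheaf.stalk (e (hW.fromSpec x))) ⟨t, ht, rfl⟩
  let ε := (asIso (e.stalkMap (hW.fromSpec x))).commRingCatIsoToRingEquiv
  let τ := ε (Q.presheaf.germ U.1 _ hU t)
  have hτnu : ¬ IsUnit τ := fun h => hnu (by simpa [τ] using h.map ε.symm)
  have hτnzd : τ ∈ (P.presheaf.stalk (hW.fromSpec x))⁰ :=
    MulEquivClass.map_nonZeroDivisors (M₀ := Q.presheaf.stalk (e (hW.fromSpec x))) ε ▸ Submonoid.mem_map_of_mem _ hnzd
  letI := P.presheaf.algebra_section_stalk ⟨hW.fromSpec x, hx⟩
  haveI := hW.isLocalization_stalk' x hx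
  obtain ⟨a, s, hτ⟩ := IsLocalization.exists_mk'_eq x.asIdeal.primeCompl τ
  have ha : a ∈ x.asIdeal := by
    by_contra h
    refine hτnu ?_
    rw [← hτ]
    exact (IsLocalization.AtPrime.isUnit_mk'_iff (S := P.presheaf.stalk (hW.fromSpec x)) _ a s).2 h
  have h0 : τ * algebraMap Γ(P, W) (P.presheaf.stalk (hW.fromSpec x)) b0 = 0 := by
    rw [← hτ, mul_comm, IsLocalization.mul_mk'_eq_mk'_of_mul, mul_comm b0 a, (hb a).1 ha, IsLocalization.mk'_zero]
  obtain ⟨r, hr⟩ := (IsLocalization.map_eq_zero_iff x.asIdeal.primeCompl _ b0).1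
    ((mul_cancel_left_mem_nonZeroDivisors hτnzd).1 (h0.trans (mul_zero τ).symm))
  exact r.2 ((hb r).2 hr)

variable {C S : Scheme.{u}} (f : C ⟶ S) [IsSeparated f] [SmoothOfRelativeDimension 1 f]

/-- The components of an associated point of the fibre power are pairwise distinct. -/
theorem pt_proj_ne {n : ℕ} {W : (SymProd.fibPow f n).Opens} (hW : IsAffineOpen W)
    (x : Ideal Γ(SymProd.fibPow f n, W)) [x.IsPrime] (b0 : Γ(SymProd.fibPow f n, W))
    (hb : ∀ r, r ∈ x ↔ r * b0 = 0) {i j : Fin n} (hij : i ≠ j) :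
    Groth.L22.SymQuot.pt hW (algebraMap Γ(SymProd.fibPow f n, W) x.ResidueField) ≫
        WidePullback.π (fun _ : Fin n => f) i ≠
      Groth.L22.SymQuot.pt hW (algebraMap Γ(SymProd.fibPow f n, W) x.ResidueField) ≫
        WidePullback.π (fun _ : Fin n => f) j := by
  intro heq
  obtain _ | m := n
  · exact i.elim0
  obtain ⟨k, hk⟩ := Fin.exists_succAbove_eq (Ne.symm hij)
  set pt := Groth.L22.SymQuot.pt hW (algebraMap Γ(SymProd.fibPow f (m + 1), W) x.ResidueField)
  let e : SymProd.fibPow f (m + 1) ⟶ PicF.XT f (TT f m) := ((isPullback_drop f i).flip.isoPullback).hom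
  have he : pt ≫ e = (pt ≫ (drop f i).left) ≫ Groth.L02.Hilb.secMor f (TT f m) (pj f m k) (pj_over f m k) := by
    apply pullback.hom_ext
    · simp only [Category.assoc, e, IsPullback.isoPullback_hom_fst, Groth.L02.Hilb.secMor_fst, drop_pj, hk]
      exact heq
    · simp only [Category.assoc, e, IsPullback.isoPullback_hom_snd]
      rw [show Groth.L02.Hilb.secMor f (TT f m) (pj f m k) (pj_over f m k) ≫ pullback.snd _ _ = 𝟙 _ from
        Groth.L02.Hilb.secMor_proj f (TT f m) _ _, Category.comp_id]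
  let y : PrimeSpectrum Γ(SymProd.fibPow f (m + 1), W) := ⟨x, inferInstance⟩
  have hy : hW.fromSpec y ∈ W := by
    rw [← SetLike.mem_coe, ← hW.range_fromSpec]
    exact ⟨y, rfl⟩
  have hpt : pt (IsLocalRing.closedPoint x.ResidueField) = hW.fromSpec y := by
    show hW.fromSpec (PrimeSpectrum.comap (algebraMap _ x.ResidueField) (IsLocalRing.closedPoint _)) = _
    congr 1
    apply PrimeSpectrum.ext
    show (IsLocalRing.maximalIdeal x.ResidueField).comap _ = x
    rw [IsLocalRing.maximalIdeal_eq_bot, ← RingHom.ker_eq_comap_bot, Ideal.ker_algebraMap_residueField]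
  refine notMem_support_of_assoc e hW _ (Groth.L02.Hilb.eff_secGraph f (TT f m) (pj f m k) (pj_over f m k))
    y b0 hb hy ?_
  rw [← hpt, ← Scheme.Hom.comp_apply, he, Scheme.Hom.comp_apply, Groth.L02.Hilb.secGraph_eq]
  exact Scheme.Hom.range_subset_ker_support _ ⟨_, rfl⟩

end Groth.L22.SymHilb
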