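import Groth.Agent.L22.SymHilb.Quot
import Groth.Agent.L27.Quot.Desc
import Groth.Agent.L23.SchKer
import Groth.Agent.S1166

/-!
The symmetric power of a curve is its Hilbert scheme of points.
-/

set_option autoImplicit false
set_option linter.style.haveILetI false
set_option backward.isDefEq.respectTransparency false
set_option backward.isDefEq.respectTransparency.types false

universe u

open CategoryTheory CategoryTheory.Limits AlgebraicGeometry

noncomputable section

namespace Groth.L22.SymHilb

theorem map_comap_of_flat_surjective {A B : Scheme.{u}} (b : A ⟶ B) [Flat b] [Surjective b] (J : B.IdealSheafData) :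
    (J.comap b).map b = J := by
  show (pullback.fst b J.subschemeι).ker.map b = J
  rw [Scheme.IdealSheafData.map_ker, pullback.condition, Groth.L23.SchKer.ker_comp_of_flat_surjective,
    Scheme.IdealSheafData.ker_subschemeι]

theorem comap_prod {A B : Scheme.{u}} (b : A ⟶ B) {ι : Type*} (s : Finset ι) (I : ι → B.IdealSheafData) :
    (∏ i ∈ s, I i).comap b = ∏ i ∈ s, (I i).comap b := by
  classical
  induction s using Finset.induction_on with
  | empty => simp only [Finset.prod_empty]; exact Scheme.IdealSheafData.comap_top _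
  | insert a t ha ih => rw [Finset.prod_insert ha, Finset.prod_insert ha, Groth.L22.Ideals.comap_mul, ih]

variable {C S : Scheme.{u}} (f : C ⟶ S)

theorem representable_of_isAF [IsSeparated f] (hAF : SymProd.IsAF f) (e : ℕ) : HilbD.Representable f e := by
  classical
  refine Groth.Agent.S1166.result f e fun s x hx => ?_
  obtain ⟨U, hU, hmem⟩ := hAF s (Finset.univ.image x) (fun y hy => by
    obtain ⟨i, -, rfl⟩ := Finset.mem_image.1 hy
    exact hx i)
  exact ⟨U, hU, fun i => hmem _ (Finset.mem_image_of_mem _ (Finset.mem_univ i))⟩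

theorem isProper_base [IsProper f] : ∀ n : ℕ, IsProper (TT f n).hom
  | 0 => by
    haveI : IsIso (TT f 0).hom := by
      refine ⟨WidePullback.lift (𝟙 S) (fun i => i.elim0) (fun i => i.elim0), ?_, WidePullback.lift_base _ _ _ _⟩
      apply WidePullback.hom_ext
      · intro i; exact i.elim0
      · simp
    infer_instance
  | n + 1 => by
    haveI := isProper_base n
    haveI : IsProper (drop f (Fin.last n)).left :=
      MorphismProperty.of_isPullback (P := @IsProper) (isPullback_drop f (Fin.last n)).flip ‹_›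
    rw [← Over.w (drop f (Fin.last n))]
    infer_instance

/-- The symmetric power of a proper smooth curve is the Hilbert scheme of points. -/
theorem exists_iso [IsLocallyNoetherian S] [IsProper f] [SmoothOfRelativeDimension 1 f] (hAF : SymProd.IsAF f)
    (n : ℕ) {Y : Scheme.{u}} (q : SymProd.fibPow f n ⟶ Y) (g : Y ⟶ S) (hq : SymProd.IsSymProd f n q g) :
    ∃ (H : Over S) (Z : HilbD.Obj f n H) (φ : TT f n ⟶ H) (ψ : Over.mk g ≅ H),
      HilbD.IsUniversal f n H Z ∧ IsProper H.hom ∧ Smooth H.hom ∧ HilbD.pull f φ Z.1 = sumGr f n ∧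
      Mor2.IsFinLocFreeOfDeg n.factorial φ.left ∧ q ≫ ψ.hom.left = φ.left := by
  have hrep := representable_of_isAF f hAF
  obtain ⟨H, Z, hZ⟩ := hrep n
  haveI hsm : Smooth H.hom := Groth.L02.Hilb.smooth_of_isUniversal f hrep n H Z hZ
  haveI : IsSeparated H.hom := Groth.L02.Hilb.isSeparated_of_isUniversal f hZ
  haveI : IsLocallyNoetherian H.left := LocallyOfFiniteType.isLocallyNoetherian H.hom
  obtain ⟨φ, hφ, -⟩ := hZ (TT f n) ⟨sumGr f n, isFinLocFreeOfDeg_sum f n _ _ _⟩
  have hdeg := isFinLocFreeOfDeg_classify f hrep n H Z hZ φ hφ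
  have hquot := isQuot_of_deg_factorial f φ.left hdeg (classify_invariant f hZ φ hφ)
  haveI := hdeg.1.1; haveI := hdeg.1.2.1; haveI := hdeg.1.2.2
  haveI : Surjective φ.left := by
    rw [← Scheme.Hom.one_le_finrank_iff_surjective]
    exact fun y => (hdeg.2 y).symm ▸ n.factorial_pos
  haveI := isProper_base f n
  haveI : UniversallyClosed H.hom := by
    haveI : UniversallyClosed (φ.left ≫ H.hom) := by rw [Over.w φ]; infer_instance
    exact UniversallyClosed.of_comp_surjective φ.left H.hom
  haveI : QuasiCompact H.hom := inferInstance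
  have hproper : IsProper H.hom := {}
  let m : Y ⟶ H.left := Groth.L27.Quot.desc hq.isQuot φ.left hquot.inv
  have hm : q ≫ m = φ.left := Groth.L27.Quot.comp_desc _ _ _
  haveI : IsIso m := ⟨Groth.L27.Quot.desc hquot q hq.isQuot.inv,
    Groth.L27.Quot.hom_ext hq.isQuot (by rw [← Category.assoc, hm, Groth.L27.Quot.comp_desc, Category.comp_id]),
    Groth.L27.Quot.hom_ext hquot (by rw [← Category.assoc, Groth.L27.Quot.comp_desc, hm, Category.comp_id])⟩
  have hmw : m ≫ H.hom = g := Groth.L27.Quot.hom_ext hq.isQuot (by rw [← Category.assoc, hm, Over.w φ, hq.over]; rfl)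
  exact ⟨H, Z, φ, Over.isoMk (asIso m) hmw, hZ, hproper, hsm, hφ, hdeg, hm⟩

theorem isUniversal_pull {n : ℕ} {H H' : Over S} {Z : HilbD.Obj f n H} (hZ : HilbD.IsUniversal f n H Z) (e : H' ≅ H) :
    HilbD.IsUniversal f n H' (Groth.L02.Hilb.pullObj f e.hom Z) := by
  intro T Z'
  obtain ⟨k, hk, huniq⟩ := hZ T Z'
  refine ⟨k ≫ e.inv, ?_, fun k' hk' => ?_⟩
  · show HilbD.pull f (k ≫ e.inv) (HilbD.pull f e.hom Z.1) = _
    rw [← Groth.L02.Hilb.pull_comp, Category.assoc, e.inv_hom_id, Category.comp_id]
    exact hk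
  · rw [← huniq (k' ≫ e.hom) (by
      show HilbD.pull f (k' ≫ e.hom) Z.1 = Z'.1
      rw [Groth.L02.Hilb.pull_comp]
      exact hk'), Category.assoc, e.hom_inv_id, Category.comp_id]

section Descent

variable [IsSeparated f] {n : ℕ} {Y : Scheme.{u}} {g : Y ⟶ S} {H : Over S} (ψ : Over.mk g ≅ H)
  (q : SymProd.fibPow f n ⟶ Y) (φ : TT f n ⟶ H) (hm : q ≫ ψ.hom.left = φ.left)

include hm in
/-- The divisor of degree `n` on `Y ×_S C` descending the sum of the graphs. -/
theorem existsUnique_descent (Z : HilbD.Obj f n H) (hφ : HilbD.pull f φ Z.1 = sumGr f n)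
    [Flat φ.left] [Surjective φ.left]
    (Q : pullback (TT f n).hom f ⟶ pullback g f) (hQ₁ : Q ≫ pullback.fst g f = pullback.fst _ f ≫ q)
    (hQ₂ : Q ≫ pullback.snd g f = pullback.snd _ f)
    (s : Fin n → (SymProd.fibPow f n ⟶ pullback (TT f n).hom f))
    (hs₁ : ∀ i, s i ≫ pullback.fst _ f = 𝟙 _) (hs₂ : ∀ i, s i ≫ pullback.snd _ f = pj f n i) :
    (∃! J : (pullback g f).IdealSheafData, J.comap Q = ∏ i, (s i).ker) ∧
      ∀ J : (pullback g f).IdealSheafData, J.comap Q = ∏ i, (s i).ker →
        Mor2.IsFinLocFreeOfDeg n (J.subschemeι ≫ pullback.fst g f) := by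
  let θ : pullback g f ⟶ PicF.XT f H := pullback.lift (pullback.snd g f) (pullback.fst g f ≫ ψ.hom.left)
    (by rw [Category.assoc, Over.w ψ.hom]; exact pullback.condition.symm)
  let sy : pullback (TT f n).hom f ⟶ PicF.XT f (TT f n) := pullback.lift (pullback.snd _ f) (pullback.fst _ f)
    pullback.condition.symm
  haveI : IsIso sy := ⟨pullback.lift (pullback.snd f _) (pullback.fst f _) pullback.condition.symm,
    pullback.hom_ext (by simp [sy]) (by simp [sy]), pullback.hom_ext (by simp [sy]) (by simp [sy])⟩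
  have hθsq : IsPullback θ (pullback.fst g f) (PicF.XTproj f H) ψ.hom.left := by
    haveI : IsIso θ := by
      refine ⟨pullback.lift (pullback.snd f H.hom ≫ ψ.inv.left) (pullback.fst f H.hom) (by
        rw [Category.assoc, show ψ.inv.left ≫ g = H.hom from Over.w ψ.inv]; exact pullback.condition.symm), ?_, ?_⟩
      · apply pullback.hom_ext
        · simp only [Category.assoc, pullback.lift_fst, θ, pullback.lift_snd_assoc, Category.id_comp]
          rw [show ψ.hom.left ≫ ψ.inv.left = 𝟙 _ from congrArg CommaMorphism.left ψ.hom_inv_id]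
          exact Category.comp_id _
        · simp [θ]
      · apply pullback.hom_ext
        · simp [θ]
        · simp only [Category.assoc, θ, pullback.lift_snd, pullback.lift_fst_assoc, Category.id_comp]
          rw [show ψ.inv.left ≫ ψ.hom.left = 𝟙 _ from congrArg CommaMorphism.left ψ.inv_hom_id]
          exact Category.comp_id _
    haveI : IsIso ψ.hom.left := inferInstanceAs (IsIso ((Over.forget S).map ψ.hom))
    exact IsPullback.of_horiz_isIso ⟨pullback.lift_snd _ _ _⟩
  have hQθ : Q ≫ θ = sy ≫ PicF.XTmap f φ := by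
    apply pullback.hom_ext
    · rw [Category.assoc, Category.assoc, Groth.L02.Hilb.XTmap_fst]
      simp [θ, sy, hQ₂]
    · rw [Category.assoc, Category.assoc, Groth.L02.Hilb.XTmap_snd]
      simp only [θ, sy, pullback.lift_snd, pullback.lift_snd_assoc]
      rw [← Category.assoc, hQ₁, Category.assoc, hm]
  haveI : IsIso θ := by
    haveI : IsIso ψ.hom.left := inferInstanceAs (IsIso ((Over.forget S).map ψ.hom))
    exact hθsq.isIso_fst_of_isIso
  haveI : Flat (PicF.XTmap f φ) :=
    MorphismProperty.of_isPullback (P := @Flat) (Groth.L02.Hilb.isPullback_XTmap f φ).flip ‹_›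
  haveI : Surjective (PicF.XTmap f φ) :=
    MorphismProperty.of_isPullback (P := @Surjective) (Groth.L02.Hilb.isPullback_XTmap f φ).flip ‹_›
  haveI : Flat (Q ≫ θ) := by rw [hQθ]; infer_instance
  haveI : Surjective (Q ≫ θ) := by rw [hQθ]; infer_instance
  haveI : Flat Q := (MorphismProperty.cancel_right_of_respectsIso @Flat Q θ).1 ‹_›
  haveI : Surjective Q := (MorphismProperty.cancel_right_of_respectsIso @Surjective Q θ).1 ‹_›
  have hs : ∀ i, (gr f n i).comap sy = (s i).ker := fun i => by
    show (HilbD.secGraph f (TT f n) (pj f n i) (pj_over f n i)).comap sy = _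
    rw [Groth.L02.Hilb.secGraph_eq]
    refine Groth.L02.Hilb.ker_section_comap (k := PicF.XTproj f (TT f n)) (g := 𝟙 _) (snd := pullback.fst _ f)
      (IsPullback.of_horiz_isIso ⟨(pullback.lift_snd _ _ _).trans (Category.comp_id _).symm⟩) _ (Groth.L02.Hilb.secMor_proj _ _ _ _) _ (hs₁ i) ?_
    apply pullback.hom_ext
    · simp only [Category.assoc, Category.id_comp, Groth.L02.Hilb.secMor_fst, sy, pullback.lift_fst]
      exact hs₂ i
    · simp only [Category.assoc, Category.id_comp, sy, pullback.lift_snd]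
      exact (hs₁ i).trans (Groth.L02.Hilb.secMor_proj f (TT f n) (pj f n i) (pj_over f n i)).symm
  have hJ₀ : (Z.1.comap θ).comap Q = ∏ i, (s i).ker := by
    rw [← Scheme.IdealSheafData.comap_comp, hQθ, Scheme.IdealSheafData.comap_comp, ← Groth.L02.Hilb.pull_eq, hφ,
      comap_prod]
    exact Finset.prod_congr rfl fun i _ => hs i
  have huniq : ∀ J : (pullback g f).IdealSheafData, J.comap Q = ∏ i, (s i).ker → J = Z.1.comap θ := fun J hJ => by
    rw [← map_comap_of_flat_surjective Q J, hJ, ← hJ₀, map_comap_of_flat_surjective]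
  refine ⟨⟨_, hJ₀, huniq⟩, fun J hJ => ?_⟩
  rw [huniq J hJ]
  exact Groth.L02.Hilb.isFinLocFreeOfDeg_comap hθsq Z.1 Z.2

end Descent

end Groth.L22.SymHilb
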