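import Groth.Agent.L02.Hilb.CurvePoints
import Groth.Agent.L22.SymHilb.Deg
import Groth.Prelude.Def_SymProd

/-!
The morphism from the fibre power of a curve to the Hilbert scheme of points.
-/

set_option autoImplicit false
set_option linter.style.haveILetI false
set_option backward.isDefEq.respectTransparency false
set_option backward.isDefEq.respectTransparency.types false

universe u

open CategoryTheory CategoryTheory.Limits AlgebraicGeometry

noncomputable section

namespace Groth.L22.SymHilb

variable {C S : Scheme.{u}} (f : C ⟶ S)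

/-- The fibre power over the base. -/
abbrev TT (n : ℕ) : Over S := Over.mk (WidePullback.base fun _ : Fin n => f)

/-- The projections. -/
abbrev pj (n : ℕ) (i : Fin n) : (TT f n).left ⟶ C := WidePullback.π (fun _ : Fin n => f) i

theorem pj_over (n : ℕ) (i : Fin n) : pj f n i ≫ f = (TT f n).hom := WidePullback.π_arrow _ _

/-- The graph of the `i`-th projection. -/
abbrev gr (n : ℕ) (i : Fin n) : (PicF.XT f (TT f n)).IdealSheafData :=
  HilbD.secGraph f (TT f n) (pj f n i) (pj_over f n i)

/-- The sum of the graphs. -/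
abbrev sumGr (n : ℕ) : (PicF.XT f (TT f n)).IdealSheafData := ∏ i, gr f n i

/-- Forgetting a factor. -/
def drop {n : ℕ} (i : Fin (n + 1)) : TT f (n + 1) ⟶ TT f n :=
  Over.homMk (WidePullback.lift (WidePullback.base fun _ : Fin (n + 1) => f) (fun k => pj f (n + 1) (i.succAbove k))
    fun k => pj_over f (n + 1) _) (WidePullback.lift_base _ _ _ _)

@[reassoc]
theorem drop_pj {n : ℕ} (i : Fin (n + 1)) (k : Fin n) :
    (drop f i).left ≫ pj f n k = pj f (n + 1) (i.succAbove k) :=
  WidePullback.lift_π _ _ _ _ _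

theorem isPullback_drop {n : ℕ} (i : Fin (n + 1)) :
    IsPullback (drop f i).left (pj f (n + 1) i) (TT f n).hom f := by
  have w : (drop f i).left ≫ (TT f n).hom = pj f (n + 1) i ≫ f := by
    rw [Over.w (drop f i), pj_over]
  refine IsPullback.of_iso_pullback ⟨w⟩ ⟨pullback.lift _ _ w,
    WidePullback.lift (pullback.snd (TT f n).hom f ≫ f)
      (i.insertNth (pullback.snd (TT f n).hom f) fun k => pullback.fst (TT f n).hom f ≫ pj f n k)
      (fun j => ?_), ?_, ?_⟩ (pullback.lift_fst _ _ _) (pullback.lift_snd _ _ _)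
  · cases j using Fin.succAboveCases i with
    | x => simp
    | p k => simp [pj_over, pullback.condition]
  · apply WidePullback.hom_ext
    · intro j
      cases j using Fin.succAboveCases i with
      | x => simp
      | p k => simp [drop_pj]
    · simp
  · apply pullback.hom_ext
    · apply WidePullback.hom_ext
      · intro k; simp [drop_pj]
      · simp [drop, pullback.condition]
    · simp

theorem pull_prod {T T' : Over S} (g : T' ⟶ T) {ι : Type*} (s : Finset ι) (I : ι → (PicF.XT f T).IdealSheafData) :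
    HilbD.pull f g (∏ i ∈ s, I i) = ∏ i ∈ s, HilbD.pull f g (I i) := by
  classical
  induction s using Finset.induction_on with
  | empty =>
    simp only [Finset.prod_empty]
    show HilbD.pull f g ⊤ = ⊤
    rw [Groth.L02.Hilb.pull_eq]
    exact Scheme.IdealSheafData.comap_top _
  | insert a t ha ih => rw [Finset.prod_insert ha, Finset.prod_insert ha, Groth.L02.Hilb.pull_mul, ih]

variable [IsSeparated f] [SmoothOfRelativeDimension 1 f]

theorem isFinLocFreeOfDeg_sum (n : ℕ) (T : Over S) (x : Fin n → (T.left ⟶ C)) (hx : ∀ i, x i ≫ f = T.hom) :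
    Mor2.IsFinLocFreeOfDeg n ((∏ i, HilbD.secGraph f T (x i) (hx i)).subschemeι ≫ PicF.XTproj f T) := by
  induction n with
  | zero => rw [Finset.univ_eq_empty, Finset.prod_empty]; exact Groth.L02.Hilb.isFinLocFreeOfDeg_top _
  | succ n ih =>
    rw [Fin.prod_univ_castSucc]
    exact Groth.L02.Hilb.isFinLocFreeOfDeg_mul f _ _ (ih _ fun i => hx i.castSucc)
      (Groth.L02.Hilb.isFinLocFreeOfDeg_secGraph f T _ _)

/-- The map to the Hilbert scheme classifying the sum of the graphs is finite locally free of degree `n!`. -/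
theorem isFinLocFreeOfDeg_classify (hrep : ∀ e : ℕ, HilbD.Representable f e) (n : ℕ) (H : Over S)
    (Z : HilbD.Obj f n H) (hZ : HilbD.IsUniversal f n H Z) (m : TT f n ⟶ H)
    (hm : HilbD.pull f m Z.1 = sumGr f n) : Mor2.IsFinLocFreeOfDeg n.factorial m.left := by
  induction n generalizing H with
  | zero =>
    haveI := Groth.L02.Hilb.isIso_of_deg_zero f hZ
    haveI : IsIso (TT f 0).hom := by
      refine ⟨WidePullback.lift (𝟙 S) (fun i => i.elim0) (fun i => i.elim0), ?_, WidePullback.lift_base _ _ _ _⟩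
      apply WidePullback.hom_ext
      · intro i; exact i.elim0
      · simp
    haveI : IsIso (m.left ≫ H.hom) := by rw [Over.w m]; infer_instance
    haveI : IsIso m.left := IsIso.of_isIso_comp_right m.left H.hom
    exact Groth.L02.Hilb.isFinLocFreeOfDeg_one_of_isIso _
  | succ n ih =>
    obtain ⟨H₀, Z₀, hZ₀⟩ := hrep n
    obtain ⟨m₀, hm₀, -⟩ := hZ₀ (TT f n) ⟨sumGr f n, isFinLocFreeOfDeg_sum f n _ _ _⟩
    have hdeg₀ := ih H₀ Z₀ hZ₀ m₀ hm₀
    let T : Over S := Over.mk (pullback.fst H₀.hom f ≫ H₀.hom)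
    let p : T ⟶ H₀ := Over.homMk (pullback.fst H₀.hom f) rfl
    let x : T.left ⟶ C := pullback.snd H₀.hom f
    have hx : x ≫ f = T.hom := pullback.condition.symm
    obtain ⟨k, hk, -⟩ := hZ T ⟨_, Groth.L02.Hilb.isFinLocFreeOfDeg_mul f _ _
      (Groth.L02.Hilb.isFinLocFreeOfDeg_pull f p Z₀.1 Z₀.2) (Groth.L02.Hilb.isFinLocFreeOfDeg_secGraph f T x hx)⟩
    have hsucc := Groth.L02.Hilb.addPoint_finLocFree f H₀ Z₀ hZ₀ H Z hZ p x hx
      (IsPullback.of_hasPullback H₀.hom f) k hk
    let δ := drop f (Fin.last n)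
    let b : TT f (n + 1) ⟶ T := Over.homMk (pullback.lift (δ ≫ m₀).left (pj f (n + 1) (Fin.last n))
      (by rw [Over.w (δ ≫ m₀), pj_over])) (by
        show pullback.lift _ _ _ ≫ pullback.fst _ _ ≫ H₀.hom = _
        rw [pullback.lift_fst_assoc]; exact Over.w (δ ≫ m₀))
    have hbp : b ≫ p = δ ≫ m₀ := Over.OverMorphism.ext (pullback.lift_fst _ _ _)
    have hbx : pj f (n + 1) (Fin.last n) = b.left ≫ x := (pullback.lift_snd _ _ _).symm
    have hbm : b ≫ k = m := Groth.L02.Hilb.hom_ext_of_isUniversal f hZ _ _ (by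
      rw [Groth.L02.Hilb.pull_comp, hk, Groth.L02.Hilb.pull_mul, ← Groth.L02.Hilb.pull_comp, hbp,
        Groth.L02.Hilb.pull_comp, hm₀, pull_prod,
        Groth.L02.Hilb.pull_secGraph f b x hx _ (pj_over f (n + 1) (Fin.last n)) hbx, hm,
        show sumGr f (n + 1) = _ from Fin.prod_univ_castSucc _]
      congr 1
      refine Finset.prod_congr rfl fun i _ => ?_
      refine Groth.L02.Hilb.pull_secGraph f δ _ _ _ _ ?_
      rw [drop_pj, Fin.succAbove_last])
    have hsq : IsPullback δ.left b.left m₀.left p.left := by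
      refine IsPullback.of_bot ?_ (congrArg CommaMorphism.left hbp).symm (IsPullback.of_hasPullback H₀.hom f).flip.flip
      have h := isPullback_drop f (Fin.last n)
      rw [← Over.w m₀, hbx] at h
      exact h
    have hbdeg : Mor2.IsFinLocFreeOfDeg n.factorial b.left := by
      obtain ⟨⟨h1, h2, h3⟩, hd⟩ := hdeg₀
      haveI := h1; haveI := h2; haveI := h3
      exact ⟨⟨MorphismProperty.of_isPullback (P := @IsFinite) hsq h1, MorphismProperty.of_isPullback (P := @Flat) hsq h2,
        MorphismProperty.of_isPullback (P := @LocallyOfFinitePresentation) hsq h3⟩,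
        fun y => (Scheme.Hom.finrank_of_isPullback _ _ _ _ hsq y).trans (hd _)⟩
    rw [← hbm, Nat.factorial_succ, mul_comm]
    exact isFinLocFreeOfDeg_comp hbdeg hsucc

omit [IsSeparated f] [SmoothOfRelativeDimension 1 f] in
/-- The classifying map is invariant under permutations. -/
theorem classify_invariant {n : ℕ} {H : Over S} {Z : HilbD.Obj f n H} (hZ : HilbD.IsUniversal f n H Z)
    (m : TT f n ⟶ H) (hm : HilbD.pull f m Z.1 = sumGr f n) [IsSeparated f] (σ : Equiv.Perm (Fin n)) :
    SymProd.permHom f n σ ≫ m.left = m.left := by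
  let P : TT f n ⟶ TT f n := Over.homMk (SymProd.permHom f n σ) (SymProd.permHom_base f n σ)
  have : P ≫ m = m := Groth.L02.Hilb.hom_ext_of_isUniversal f hZ _ _ (by
    rw [Groth.L02.Hilb.pull_comp, hm, pull_prod]
    refine Fintype.prod_equiv σ.symm _ _ fun i => ?_
    exact Groth.L02.Hilb.pull_secGraph f P _ _ _ _ (SymProd.permHom_π f n σ i).symm)
  exact congrArg CommaMorphism.left this

end Groth.L22.SymHilb
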