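import Groth.Agent.L22.SymHilb.Free
import Groth.Agent.L22.SymHilb.Alg
import Groth.Agent.L27.Quot.Local

/-!
A finite locally free invariant morphism of degree `n!` out of the fibre power of a curve is a quotient.
-/

set_option autoImplicit false
set_option linter.style.haveILetI false
set_option backward.isDefEq.respectTransparency false
set_option backward.isDefEq.respectTransparency.types false

universe u

open CategoryTheory CategoryTheory.Limits AlgebraicGeometry
open Groth.L22.SymQuot (GP mv Stable actOn pt pt_mv mv_prj)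

noncomputable section

namespace Groth.L22.SymHilb

variable {C S : Scheme.{u}} (f : C ⟶ S) [IsSeparated f] [SmoothOfRelativeDimension 1 f]

theorem isQuot_of_deg_factorial {n : ℕ} {Y : Scheme.{u}} [IsLocallyNoetherian Y] (φ : SymProd.fibPow f n ⟶ Y)
    (hdeg : Mor2.IsFinLocFreeOfDeg n.factorial φ) (hσ : ∀ σ, SymProd.permHom f n σ ≫ φ = φ) :
    SGA1.IsQuot (SymProd.permActU f n) φ := by
  obtain ⟨⟨h1, h2, h3⟩, hd⟩ := hdeg
  haveI := h1; haveI := h2; haveI := h3
  refine Groth.L27.Quot.isQuot_of_affine_cover inferInstance (fun g => by rw [SymProd.permActU_hom]; exact hσ _)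
    fun y => ?_
  obtain ⟨U, hU, hyU, -⟩ := exists_isAffineOpen_mem_and_subset (x := y) (U := ⊤) trivial
  refine ⟨U, hU, hyU, ?_⟩
  have hW : IsAffineOpen (φ ⁻¹ᵁ U) := hU.preimage φ
  have hWs : Stable f n (φ ⁻¹ᵁ U) := fun g => by
    rw [← Scheme.Hom.comp_preimage, hσ]
  let A := Γ(Y, U)
  let B := Γ(SymProd.fibPow f n, φ ⁻¹ᵁ U)
  letI : Algebra A B := (φ.app U).hom.toAlgebra
  letI := actOn hWs
  have hfix : ∀ (g : GP.{u} n) (a : A), g • algebraMap A B a = algebraMap A B a := fun g a => by
    show ((mv f n g).appLE _ _ (hWs g)).hom ((φ.app U).hom a) = (φ.app U).hom a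
    refine ConcreteCategory.congr_hom (?_ : φ.app U ≫ (mv f n g).appLE _ _ (hWs g) = φ.app U) a
    rw [Scheme.Hom.app_eq_appLE, Scheme.Hom.appLE_comp_appLE, Groth.L27.Quot.appLE_eq_of_eq (hσ _)]
  haveI : SMulCommClass (GP.{u} n) A B := ⟨fun g a b => by
    rw [Algebra.smul_def, Algebra.smul_def, smul_mul', hfix g a]⟩
  haveI : IsNoetherianRing A := IsLocallyNoetherian.component_noetherian ⟨U, hU⟩
  haveI : Module.Finite A B := φ.finite_app U hU
  haveI : Module.Flat A B := by
    have := φ.flat_appLE hU hW le_rfl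
    rw [← Scheme.Hom.app_eq_appLE] at this
    exact this
  haveI : Module.FinitePresentation A B := Module.finitePresentation_of_finite A B
  haveI : Module.Projective A B := Module.Flat.projective_of_finitePresentation
  haveI : IsNoetherianRing B := IsNoetherianRing.of_finite A B
  have hsq : IsPullback hW.fromSpec (Spec.map (φ.app U)) φ hU.fromSpec :=
    (IsOpenImmersion.isPullback _ _ _ _
      (by rw [Scheme.Hom.app_eq_appLE]; exact (hU.SpecMap_appLE_fromSpec φ hW le_rfl).symm)
      (by rw [hU.opensRange_fromSpec, hW.opensRange_fromSpec])).flip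
  have hrank : ∀ p : PrimeSpectrum A, Module.rankAtStalk B p = Fintype.card (GP.{u} n) := fun p => by
    rw [Fintype.card_ulift, Fintype.card_perm, Fintype.card_fin, ← hd (hU.fromSpec p),
      ← Scheme.Hom.finrank_of_isPullback _ _ _ _ hsq p, ← Scheme.Hom.finrank_SpecMap_algebraMap A B p]
    rfl
  have hfree : ∀ (x : Ideal B) [x.IsPrime], (∃ b0 : B, ∀ r, r ∈ x ↔ r * b0 = 0) →
      ∀ g h : GP.{u} n, g ≠ h → ∃ b : B, g • b - h • b ∉ x := by
    intro x _ ⟨b0, hb0⟩ g h hgh
    obtain ⟨i, hi⟩ : ∃ i, g.down i ≠ h.down i := by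
      by_contra hc
      push Not at hc
      exact hgh (ULift.ext g h (Equiv.ext hc))
    by_contra hc
    push Not at hc
    have hpt : pt hW (algebraMap B x.ResidueField) ≫ mv f n g = pt hW (algebraMap B x.ResidueField) ≫ mv f n h := by
      rw [pt_mv hW _ hWs g, pt_mv hW _ hWs h]
      congr 1
      refine RingHom.ext fun b => ?_
      rw [RingHom.comp_apply, RingHom.comp_apply, ← sub_eq_zero, ← map_sub,
        Ideal.algebraMap_residueField_eq_zero]
      exact hc b
    have := congrArg (· ≫ Groth.L22.SymQuot.prj f n i) hpt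
    simp only [Category.assoc, mv_prj] at this
    exact pt_proj_ne f hW x b0 hb0 hi this
  haveI : Module.FaithfullyFlat A B := Module.FaithfullyFlat.of_comap_surjective
    ((PrimeSpectrum.rankAtStalk_pos_iff_comap_surjective).1 fun p => (hrank p).symm ▸ Fintype.card_pos)
  refine ⟨FaithfulSMul.algebraMap_injective A B, fun s hs => ?_⟩
  refine mem_range_of_invariant A B (GP.{u} n) hrank hfree s fun g => ?_
  show ((mv f n g).appLE _ _ (hWs g)).hom s = s
  exact hs ⟨g.down.symm⟩

end Groth.L22.SymHilb
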